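import Mathlib
open scoped TensorProduct IntermediateField
open Polynomial
set_option backward.isDefEq.respectTransparency.types false
set_option maxHeartbeats 2000000

namespace Groth.Agent.SepComplEq
universe u
variable {K L : Type u} [Field K] [Field L] [Algebra K L]

noncomputable abbrev dd (K : Type u) {L : Type u} [Field K] [CommRing L] [Algebra K L] (x : L) : L ⊗[K] L := x ⊗ₜ[K] (1:L) - (1:L) ⊗ₜ[K] x

lemma dd_mem (x : L) : dd K x ∈ KaehlerDifferential.ideal K L := by
  simp [KaehlerDifferential.ideal, RingHom.mem_ker]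

lemma mem_pow_of_sep (x : L) (hx : IsSeparable K x) (n : ℕ) :
    dd K x ∈ (KaehlerDifferential.ideal K L) ^ n := by
  let A := L ⊗[K] L
  set d := dd K x
  let b : A := (1:L) ⊗ₜ[K] x
  let f := minpoly K x
  let g := f.map (algebraMap K A)
  have ha : g.eval (b + d) = 0 := by
    have h : b + d = (Algebra.TensorProduct.includeLeft : L →ₐ[K] A) x := by
      simp [b, d, dd, A]
    rw [h, eval_map_algebraMap, aeval_algHom_apply, minpoly.aeval, map_zero]
  have hbe : ∀ q : K[X], (q.map (algebraMap K A)).eval b = (Algebra.TensorProduct.includeRight : L →ₐ[K] A) (aeval x q) := by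
    intro q
    rw [eval_map_algebraMap, ← aeval_algHom_apply]; rfl
  have hb : g.eval b = 0 := by rw [hbe, minpoly.aeval, map_zero]
  have hu : IsUnit (g.derivative.eval b) := by
    rw [derivative_map, hbe]
    exact (IsUnit.mk0 _ (hx.aeval_derivative_ne_zero (minpoly.aeval K x))).map _
  obtain ⟨k, hk⟩ := Polynomial.binomExpansion g b d
  rw [ha, hb, zero_add] at hk
  obtain ⟨u, hu⟩ := hu
  rw [← hu] at hk
  have h2 : d = (-(↑u⁻¹ * k * d)) * d := by
    calc d = (↑u⁻¹ * ↑u) * d := by rw [Units.inv_mul, one_mul]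
    _ = _ := by linear_combination (-(↑u⁻¹ : A)) * hk
  have hc : (-(↑u⁻¹ * k * d)) ∈ KaehlerDifferential.ideal K L :=
    neg_mem (Ideal.mul_mem_left _ _ (dd_mem x))
  induction n with
  | zero => simp
  | succ n ih => rw [pow_succ', h2]; exact Ideal.mul_mem_mul hc ih

lemma exists_ann (hfg : (⊤ : IntermediateField K L).FG) (x : L)
    (h : ∀ n : ℕ, dd K x ∈ (KaehlerDifferential.ideal K L) ^ n) :
    ∃ s : L ⊗[K] L, dd K x * s = 0 ∧ Algebra.TensorProduct.lmul' (S := L) K s = 1 := by
  haveI : Algebra.EssFiniteType K L := (Algebra.EssFiniteType.iff_of_algEquiv IntermediateField.topEquiv).mp (IntermediateField.essFiniteType_iff.mpr hfg)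
  haveI : IsNoetherianRing (L ⊗[K] L) := Algebra.EssFiniteType.isNoetherianRing L (L ⊗[K] L)
  have hm : dd K x ∈ (⨅ i : ℕ, (KaehlerDifferential.ideal K L) ^ i • ⊤ : Submodule (L ⊗[K] L) (L ⊗[K] L)) := by
    simpa [Submodule.mem_iInf] using h
  obtain ⟨⟨r, hr⟩, hrx⟩ := (Ideal.mem_iInf_smul_pow_eq_bot_iff _ _).mp hm
  refine ⟨1 - r, ?_, ?_⟩
  · simp only [smul_eq_mul] at hrx
    linear_combination -hrx
  · have hr' : Algebra.TensorProduct.lmul' (S := L) K r = 0 := hr
    rw [map_sub, map_one, hr', sub_zero]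

lemma descend (x : L) (s : L ⊗[K] L) (hs : dd K x * s = 0)
    (h1 : Algebra.TensorProduct.lmul' (S := L) K s = 1) :
    ∃ b : K⟮x⟯ ⊗[K] K⟮x⟯, dd K (IntermediateField.AdjoinSimple.gen K x) * b = 0 ∧
      Algebra.TensorProduct.lmul' (S := K⟮x⟯) K b ≠ 0 := by
  let E := K⟮x⟯
  let v := Module.Free.chooseBasis E L
  let Φ : L ⊗[K] L →ₗ[K] L ⊗[E] L := (TensorProduct.mapOfCompatibleSMul E K K L L).restrictScalars K
  have hΦ : Φ s ≠ 0 := by
    intro h0
    have : ∀ c, Algebra.TensorProduct.lmul' (S := L) E (Φ c) = Algebra.TensorProduct.lmul' (S := L) K c := by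
      intro c
      induction c using TensorProduct.induction_on with
      | zero => simp
      | tmul l m => simp [Φ]
      | add c c' hc hc' => simp only [map_add, hc, hc']
    have hh := this s
    rw [h0, map_zero, h1] at hh
    exact zero_ne_one hh
  obtain ⟨⟨i, j⟩, hij⟩ : ∃ p, (v.tensorProduct v).repr (Φ s) p ≠ 0 := by
    by_contra hc
    push_neg at hc
    exact hΦ ((v.tensorProduct v).repr.injective (by ext p; simpa using hc p))
  let π : _ → L →ₗ[K] E := fun k => (v.coord k).restrictScalars K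
  let T := TensorProduct.map (π i) (π j)
  have hT1 : ∀ c, T (dd K x * c) = dd K (IntermediateField.AdjoinSimple.gen K x) * T c := by
    intro c
    induction c using TensorProduct.induction_on with
    | zero => simp
    | tmul l m =>
      have hx : ∀ k y, π k (x * y) = IntermediateField.AdjoinSimple.gen K x * π k y := by
        intro k y
        show v.coord k (x * y) = _
        have : x * y = (IntermediateField.AdjoinSimple.gen K x) • y := rfl
        rw [this, map_smul]; rfl
      simp [dd, sub_mul, T, hx]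
    | add c c' hc hc' => simp only [mul_add, map_add, hc, hc']
  have hT2 : ∀ c, Algebra.TensorProduct.lmul' (S := E) K (T c) = (v.tensorProduct v).repr (Φ c) (i, j) := by
    intro c
    induction c using TensorProduct.induction_on with
    | zero => simp
    | tmul l m => simp [T, π, Φ, mul_comm]
    | add c c' hc hc' => simp only [map_add, Finsupp.add_apply, hc, hc']
  refine ⟨T s, ?_, by rw [hT2]; exact hij⟩
  rw [← hT1, hs, map_zero]

lemma trans_case (x : L) (htr : ¬ IsIntegral K x) (b : K⟮x⟯ ⊗[K] K⟮x⟯)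
    (hb : dd K (IntermediateField.AdjoinSimple.gen K x) * b = 0) :
    Algebra.TensorProduct.lmul' (S := K⟮x⟯) K b = 0 := by
  set g := IntermediateField.AdjoinSimple.gen K x with hg
  let E := K⟮x⟯
  have htE : ¬ IsIntegral K g := by
    simpa [hg, IntermediateField.AdjoinSimple.isIntegral_gen] using htr
  have hinj : Function.Injective (aeval (R := K) g) := by
    rw [← transcendental_iff_injective]
    exact fun h => htE h.isIntegral
  let θ : E ⊗[K] K[X] →ₐ[K] E ⊗[K] E := Algebra.TensorProduct.map (AlgHom.id K E) (aeval g)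
  have hθ : Function.Injective θ := Module.Flat.lTensor_preserves_injective_linearMap (aeval g).toLinearMap hinj
  have hclear : ∀ c : E ⊗[K] E, ∃ q : K[X], q ≠ 0 ∧ ∃ P, θ P = ((1:E) ⊗ₜ[K] aeval g q) * c := by
    intro c
    induction c using TensorProduct.induction_on with
    | zero => exact ⟨1, one_ne_zero, 0, by simp⟩
    | tmul l m =>
      obtain ⟨r, q, hrq⟩ := IntermediateField.mem_adjoin_simple_iff K (m : L) |>.mp m.2
      by_cases hq : q = 0
      · subst hq
        have : m = 0 := Subtype.ext (by simpa using hrq)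
        exact ⟨1, one_ne_zero, 0, by simp [this]⟩
      · refine ⟨q, hq, l ⊗ₜ[K] r, ?_⟩
        have hqne : aeval g q ≠ 0 := (map_ne_zero_iff _ hinj).mpr hq
        have : aeval g r = aeval g q * m := by
          apply Subtype.ext
          have hqL : aeval x q ≠ 0 := by
            intro h; apply hqne; apply Subtype.ext
            simpa [hg] using h
          simp only [MulMemClass.coe_mul, hg]
          rw [hrq]
          simp [mul_div_cancel₀, hqL]
        simp [θ, this]
    | add c c' hc hc' =>
      obtain ⟨q, hq, P, hP⟩ := hc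
      obtain ⟨q', hq', P', hP'⟩ := hc'
      refine ⟨q * q', mul_ne_zero hq hq', (1 ⊗ₜ q') * P + (1 ⊗ₜ q) * P', ?_⟩
      have h1 : ∀ w : K[X], θ ((1:E) ⊗ₜ w) = (1:E) ⊗ₜ[K] aeval g w := fun w => by simp [θ]
      have h2 : ((1:E) ⊗ₜ[K] aeval g (q * q')) = ((1:E) ⊗ₜ[K] aeval g q) * ((1:E) ⊗ₜ[K] aeval g q') := by simp
      simp only [map_add, map_mul θ, h1, hP, hP', h2]
      ring
  obtain ⟨q, hq, P, hP⟩ := hclear b
  have : NoZeroDivisors (E ⊗[K] K[X]) := (polyEquivTensor K E).symm.injective.noZeroDivisors _ (map_zero _) (map_mul _)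
  let d' : E ⊗[K] K[X] := g ⊗ₜ 1 - 1 ⊗ₜ X
  have hd' : d' ≠ 0 := by
    intro h0
    have hh := congrArg (Algebra.TensorProduct.lift (AlgHom.id K E) ((Algebra.ofId K E).comp (aeval (0:K))) (fun _ _ => Commute.all _ _)) h0
    simp [d'] at hh
    exact htE (hh ▸ isIntegral_zero)
  have h0 : θ (d' * P) = 0 := by
    have : θ d' = dd K g := by simp [θ, d', dd]
    rw [map_mul θ, this, hP]
    exact (mul_left_comm _ _ _).trans ((congrArg (_ * ·) hb).trans (mul_zero _))
  have hP0 : P = 0 := (mul_eq_zero.mp (hθ (h0.trans (map_zero θ).symm))).resolve_left hd'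
  rw [hP0, map_zero] at hP
  have := congrArg (Algebra.TensorProduct.lmul' (S := E) K) hP.symm
  rw [map_mul, map_zero] at this
  simpa [hinj.eq_iff' (map_zero (aeval g)), hq] using this

lemma alg_case (x : L) (hint : IsIntegral K x) (b : K⟮x⟯ ⊗[K] K⟮x⟯)
    (hb : dd K (IntermediateField.AdjoinSimple.gen K x) * b = 0)
    (hm : Algebra.TensorProduct.lmul' (S := K⟮x⟯) K b ≠ 0) : IsSeparable K x := by
  let pb := IntermediateField.adjoin.powerBasis hint
  let E := K⟮x⟯
  set g := IntermediateField.AdjoinSimple.gen K x with hg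
  have hpg : pb.gen = g := rfl
  let f := minpoly K g
  let fE := f.map (algebraMap K E)
  have hr : aeval (AdjoinRoot.root fE) (minpoly K pb.gen) = 0 := by
    rw [← aeval_map_algebraMap E, AdjoinRoot.aeval_eq]
    exact AdjoinRoot.mk_self
  let ψ : E ⊗[K] E →ₐ[K] AdjoinRoot fE :=
    Algebra.TensorProduct.lift (IsScalarTower.toAlgHom K E (AdjoinRoot fE)) (pb.lift _ hr) (fun _ _ => Commute.all _ _)
  have hev0 : fE.eval₂ (RingHom.id E) g = 0 := by
    show fE.eval g = 0
    rw [eval_map_algebraMap]; exact minpoly.aeval K g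
  let ev : AdjoinRoot fE →ₐ[K] E := AdjoinRoot.liftAlgHom fE (AlgHom.id K E) g hev0
  have hev : ∀ c, ev (ψ c) = Algebra.TensorProduct.lmul' (S := E) K c := by
    intro c
    induction c using TensorProduct.induction_on with
    | zero => simp
    | tmul l m =>
      let φ : E →ₐ[K] E := ev.comp (pb.lift _ hr)
      have hφ : φ = AlgHom.id K E := pb.algHom_ext (by
        show ev (pb.lift _ hr pb.gen) = pb.gen
        rw [pb.lift_gen]; simp [ev, hpg])
      have hm' : ev (pb.lift _ hr m) = m := DFunLike.congr_fun hφ m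
      have hl : ev (AdjoinRoot.of fE l) = l := by simp [ev]
      simp [ψ, hm', hl, AdjoinRoot.algebraMap_eq]
    | add c c' hc hc' => simp only [map_add, hc, hc']
  obtain ⟨P, hP⟩ := AdjoinRoot.mk_surjective (ψ b)
  have hd : ψ (dd K g) = AdjoinRoot.mk fE (C g - X) := by
    have : pb.lift _ hr g = AdjoinRoot.root fE := by rw [← hpg]; exact pb.lift_gen _ hr
    simp [ψ, dd, this, AdjoinRoot.algebraMap_eq]
  have h0 : AdjoinRoot.mk fE ((C g - X) * P) = 0 := by
    rw [map_mul, hP, ← hd, ← map_mul, hb, map_zero]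
  obtain ⟨Q, hQ⟩ := AdjoinRoot.mk_eq_zero.mp h0
  have hPg : P.eval g ≠ 0 := by
    have : ev (AdjoinRoot.mk fE P) = P.eval g := by simp [ev]
    rwa [← this, hP, hev]
  have h3 := congrArg (fun q => eval g (derivative q)) hQ
  have hf0 : fE.eval g = 0 := hev0
  have hd0 : fE.derivative.eval g ≠ 0 := by
    intro h; apply hPg
    simpa [derivative_mul, hf0, h] using h3
  have hgsep : f.Separable := by
    rw [separable_iff_derivative_ne_zero (minpoly.irreducible ((IntermediateField.AdjoinSimple.isIntegral_gen K x).mpr hint))]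
    intro h; apply hd0
    show eval g (derivative (f.map (algebraMap K E))) = 0
    rw [derivative_map, show derivative f = 0 from h, Polynomial.map_zero, eval_zero]
  show (minpoly K x).Separable
  have : minpoly K g = minpoly K x := IntermediateField.minpoly_gen K x
  rwa [← this]

theorem main (hfg : (⊤ : IntermediateField K L).FG) (x : L) :
    AdicCompletion.of (KaehlerDifferential.ideal K L) (L ⊗[K] L) (x ⊗ₜ[K] (1 : L)) =
        AdicCompletion.of (KaehlerDifferential.ideal K L) (L ⊗[K] L) ((1 : L) ⊗ₜ[K] x) ↔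
      x ∈ separableClosure K L := by
  have key : AdicCompletion.of (KaehlerDifferential.ideal K L) (L ⊗[K] L) (x ⊗ₜ[K] (1 : L)) =
        AdicCompletion.of (KaehlerDifferential.ideal K L) (L ⊗[K] L) ((1 : L) ⊗ₜ[K] x) ↔
      ∀ n : ℕ, dd K x ∈ (KaehlerDifferential.ideal K L) ^ n := by
    rw [AdicCompletion.ext_iff]
    refine forall_congr' fun n => ?_
    simp [AdicCompletion.of_apply, Submodule.Quotient.eq, Ideal.Quotient.eq, dd]
  rw [key, mem_separableClosure_iff]
  refine ⟨fun h => ?_, fun h => mem_pow_of_sep x h⟩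
  obtain ⟨s, hs, hs1⟩ := exists_ann hfg x h
  obtain ⟨b, hb, hm⟩ := descend x s hs hs1
  by_cases hint : IsIntegral K x
  · exact alg_case x hint b hb hm
  · exact absurd (trans_case x hint b hb) hm
end Groth.Agent.SepComplEq
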